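import Mathlib.Tactic
import Mathlib.Algebra.Order.BigOperators.Group.Finset

/-!
The arithmetic of the two columns: no family of integer rows satisfies the moment conditions.
-/

set_option autoImplicit false

open Finset

namespace CfsgLib.Case.Eight

/-- One row: the admissible triples `(s, u, d)` with `|u| = 1`, `|s| ≤ 3`. -/
theorem small_row {s u d : ℤ} (hd : |s| < d) (hd8 : (8 : ℤ) ∣ d - s) (hds : 0 ≤ d + 7 * s)
    (hu : u = 1 ∨ u = -1) (h3 : (3 : ℤ) ∣ u + s) (hs : s ^ 2 ≤ 11) :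
    -(2 / 7 : ℚ) ≤ (s : ℚ) ^ 2 * u / d ∧ (s ^ 2 ≤ 1 → -(1 / 9 : ℚ) ≤ (s : ℚ) ^ 2 * u / d) := by
  have hd0 : (0 : ℚ) < d := by exact_mod_cast lt_of_le_of_lt (abs_nonneg s) hd
  rcases hu with rfl | rfl
  · have : (0 : ℚ) ≤ (s : ℚ) ^ 2 * (1 : ℤ) / d := by positivity
    exact ⟨by linarith, fun _ => by linarith⟩
  have hs3 : -3 ≤ s ∧ s ≤ 3 := by constructor <;> nlinarith
  obtain ⟨k, hk⟩ := hd8
  have h1 := abs_lt.1 hd
  obtain ⟨hl, hr⟩ := hs3
  obtain ⟨j, hj⟩ := h3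
  interval_cases s <;> try omega
  · -- s = -2
    refine ⟨?_, fun h => absurd h (by norm_num)⟩
    have : (14 : ℚ) ≤ d := by exact_mod_cast (show (14 : ℤ) ≤ d by omega)
    rw [le_div_iff₀ hd0]; push_cast; linarith
  · -- s = 1
    have : (9 : ℚ) ≤ d := by exact_mod_cast (show (9 : ℤ) ≤ d by omega)
    constructor
    · rw [le_div_iff₀ hd0]; push_cast; linarith
    · intro _; rw [le_div_iff₀ hd0]; push_cast; linarith

/-- The row with `|u| = 2`. -/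
theorem big_row {s u d : ℤ} (hd : |s| < d) (hd8 : (8 : ℤ) ∣ d - s) (hds : 0 ≤ d + 7 * s)
    (hu : u = 2 ∨ u = -2) (h3 : (3 : ℤ) ∣ u + s) (hs : s ^ 2 ≤ 23) :
    -(8 / 7 : ℚ) ≤ (s : ℚ) ^ 2 * u / d ∧ (s ≠ -4 → -(4 / 5 : ℚ) ≤ (s : ℚ) ^ 2 * u / d) := by
  have hd0 : (0 : ℚ) < d := by exact_mod_cast lt_of_le_of_lt (abs_nonneg s) hd
  rcases hu with rfl | rfl
  · have : (0 : ℚ) ≤ (s : ℚ) ^ 2 * (2 : ℤ) / d := by positivity
    exact ⟨by linarith, fun _ => by linarith⟩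
  have hs3 : -4 ≤ s ∧ s ≤ 4 := by constructor <;> nlinarith
  obtain ⟨k, hk⟩ := hd8
  have h1 := abs_lt.1 hd
  obtain ⟨hl, hr⟩ := hs3
  obtain ⟨j, hj⟩ := h3
  interval_cases s <;> try omega
  · have : (28 : ℚ) ≤ d := by exact_mod_cast (show (28 : ℤ) ≤ d by omega)
    exact ⟨by rw [le_div_iff₀ hd0]; push_cast; linarith, fun h => absurd rfl h⟩
  · have : (7 : ℚ) ≤ d := by exact_mod_cast (show (7 : ℤ) ≤ d by omega)
    exact ⟨by rw [le_div_iff₀ hd0]; push_cast; linarith,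
      fun _ => by rw [le_div_iff₀ hd0]; push_cast; linarith⟩
  · have : (10 : ℚ) ≤ d := by exact_mod_cast (show (10 : ℤ) ≤ d by omega)
    exact ⟨by rw [le_div_iff₀ hd0]; push_cast; linarith,
      fun _ => by rw [le_div_iff₀ hd0]; push_cast; linarith⟩

/-- The moment conditions are contradictory. -/
theorem no_rows {ι : Type*} [DecidableEq ι] (P : Finset ι) (s u v d : ι → ℤ) (σ : ι → ι)
    (hσ : ∀ i ∈ P, σ i ∈ P ∧ s (σ i) = s i ∧ v (σ i) = -v i)
    (hd : ∀ i ∈ P, |s i| < d i ∧ (8 : ℤ) ∣ d i - s i ∧ 0 ≤ d i + 7 * s i)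
    (h3 : ∀ i ∈ P, (3 : ℤ) ∣ u i + s i) (h2 : ∀ i ∈ P, (2 : ℤ) ∣ u i - v i)
    (hs2 : ∑ i ∈ P, s i ^ 2 = 23) (hu2 : ∑ i ∈ P, u i ^ 2 = 8) (hv2 : ∑ i ∈ P, v i ^ 2 = 4)
    (heq : ∑ i ∈ P, (s i : ℚ) ^ 2 * u i / d i = -2) : False := by
  classical
  have hpair : ∀ i ∈ P, v i ≠ 0 → 2 * s i ^ 2 ≤ 23 ∧ v i ^ 2 = 1 := by
    intro i hi hv
    obtain ⟨hmem, hsσ, hvσ⟩ := hσ i hi
    have hne : σ i ≠ i := fun h => hv (by rw [h] at hvσ; omega)
    have hsub : ({i, σ i} : Finset ι) ⊆ P := Finset.insert_subset_iff.2 ⟨hi, by simpa using hmem⟩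
    have h1 : ∑ j ∈ ({i, σ i} : Finset ι), s j ^ 2 ≤ 23 :=
      hs2 ▸ Finset.sum_le_sum_of_subset_of_nonneg hsub fun j _ _ => sq_nonneg _
    have h2 : ∑ j ∈ ({i, σ i} : Finset ι), v j ^ 2 ≤ 4 :=
      hv2 ▸ Finset.sum_le_sum_of_subset_of_nonneg hsub fun j _ _ => sq_nonneg _
    rw [Finset.sum_pair hne.symm, hsσ] at h1
    rw [Finset.sum_pair hne.symm, hvσ, neg_sq] at h2
    refine ⟨by omega, ?_⟩
    have : -1 ≤ v i ∧ v i ≤ 1 := by constructor <;> nlinarith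
    obtain ⟨hl, hr⟩ := this
    interval_cases (v i) <;> simp_all
  set P1 := P.filter fun i => v i ≠ 0 with hP1
  set P0 := P.filter fun i => ¬ v i ≠ 0 with hP0
  have hcard : (P1.card : ℤ) = 4 := by
    rw [← hv2, ← Finset.sum_filter_add_sum_filter_not P (fun i => v i ≠ 0), ← hP1, ← hP0,
      Finset.sum_eq_zero (s := P0) (fun i hi => by
        have := (Finset.mem_filter.1 hi).2; push Not at this; rw [this]; rfl), add_zero,
      Finset.sum_congr rfl fun i hi =>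
        (hpair i (Finset.mem_filter.1 hi).1 (Finset.mem_filter.1 hi).2).2, Finset.sum_const,
      nsmul_eq_mul, mul_one]
  have hodd : ∀ i ∈ P1, 1 ≤ u i ^ 2 := by
    intro i hi
    obtain ⟨hiP, hv⟩ := Finset.mem_filter.1 hi
    have hu : u i ≠ 0 := fun h => by
      obtain ⟨k, hk⟩ := h2 i hiP
      have := (hpair i hiP hv).2
      rw [h] at hk
      rw [show v i = 2 * (-k) by omega] at this
      ring_nf at this
      omega
    have : 0 < u i ^ 2 := by positivity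
    omega
  have hsplit := Finset.sum_filter_add_sum_filter_not P (fun i => v i ≠ 0) (fun i => u i ^ 2)
  rw [hu2, ← hP1, ← hP0] at hsplit
  have hge : (4 : ℤ) ≤ ∑ i ∈ P1, u i ^ 2 := by
    rw [← hcard, ← nsmul_one P1.card, ← Finset.sum_const]
    · exact Finset.sum_le_sum hodd
  have hrest : ∑ i ∈ P0, u i ^ 2 ≤ 4 := by omega
  have hu1 : ∀ i ∈ P1, u i = 1 ∨ u i = -1 := by
    intro i hi
    have h4 : (P1.erase i).card = 3 := by
      rw [Finset.card_erase_of_mem hi]; omega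
    have h5 : (3 : ℤ) ≤ ∑ j ∈ P1.erase i, u j ^ 2 := by
      calc (3 : ℤ) = ∑ j ∈ P1.erase i, (1 : ℤ) := by simp [h4]
        _ ≤ _ := Finset.sum_le_sum fun j hj => hodd j (Finset.mem_of_mem_erase hj)
    have h6 := Finset.add_sum_erase P1 (fun j => u j ^ 2) hi
    have h7 : 0 ≤ ∑ j ∈ P0, u j ^ 2 := Finset.sum_nonneg fun _ _ => sq_nonneg _
    have h8 := hodd i hi
    have h9 : -2 ≤ u i ∧ u i ≤ 2 := by constructor <;> nlinarith
    obtain ⟨k, hk⟩ := h2 i (Finset.mem_filter.1 hi).1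
    have hv1 := (hpair i (Finset.mem_filter.1 hi).1 (Finset.mem_filter.1 hi).2).2
    rcases sq_eq_one_iff.1 hv1 with h | h <;> omega
  -- the contributions
  have hP1b : ∀ i ∈ P1, -(2 / 7 : ℚ) ≤ (s i : ℚ) ^ 2 * u i / d i ∧
      (s i ^ 2 ≤ 1 → -(1 / 9 : ℚ) ≤ (s i : ℚ) ^ 2 * u i / d i) := fun i hi => by
    have hiP := (Finset.mem_filter.1 hi).1
    have := (hpair i hiP (Finset.mem_filter.1 hi).2).1
    exact small_row (hd i hiP).1 (hd i hiP).2.1 (hd i hiP).2.2 (hu1 i hi) (h3 i hiP) (by omega)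
  have hsum1 : ∀ b : ℚ, (∀ i ∈ P1, b ≤ (s i : ℚ) ^ 2 * u i / d i) →
      4 * b ≤ ∑ i ∈ P1, (s i : ℚ) ^ 2 * u i / d i := by
    intro b hb
    have h := Finset.sum_le_sum hb
    rw [Finset.sum_const, nsmul_eq_mul] at h
    have : (P1.card : ℚ) = 4 := by exact_mod_cast hcard
    rwa [this] at h
  have htot := Finset.sum_filter_add_sum_filter_not P (fun i => v i ≠ 0)
    (fun i => (s i : ℚ) ^ 2 * u i / d i)
  rw [heq, ← hP1, ← hP0] at htot
  by_cases hj : ∀ i ∈ P0, u i = 0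
  · rw [Finset.sum_eq_zero (s := P0) (fun i hi => by simp [hj i hi]), add_zero] at htot
    linarith [hsum1 _ fun i hi => (hP1b i hi).1]
  push Not at hj
  obtain ⟨j, hjP0, huj⟩ := hj
  obtain ⟨hjP, hvj⟩ := Finset.mem_filter.1 hjP0
  push Not at hvj
  obtain ⟨k, hk⟩ := h2 j hjP
  rw [hvj, sub_zero] at hk
  have hk0 : k ≠ 0 := fun h => huj (by rw [hk, h]; rfl)
  have hle : u j ^ 2 + ∑ i ∈ P0.erase j, u i ^ 2 ≤ 4 := by
    rw [Finset.add_sum_erase P0 (fun i => u i ^ 2) hjP0]; exact hrest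
  have hnn : 0 ≤ ∑ i ∈ P0.erase j, u i ^ 2 := Finset.sum_nonneg fun _ _ => sq_nonneg _
  have hu4 : 4 ≤ u j ^ 2 := by
    rw [hk, mul_pow]
    have : 0 < k ^ 2 := by positivity
    omega
  have huj2 : u j = 2 ∨ u j = -2 := by
    have : -2 ≤ u j ∧ u j ≤ 2 := by constructor <;> nlinarith
    omega
  have hzero : ∀ i ∈ P0.erase j, u i = 0 := fun i hi => by
    have := (Finset.sum_eq_zero_iff_of_nonneg fun _ _ => sq_nonneg _).1
      (show ∑ i ∈ P0.erase j, u i ^ 2 = 0 by omega) i hi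
    exact pow_eq_zero_iff two_ne_zero |>.1 this
  rw [← Finset.add_sum_erase P0 (fun i => (s i : ℚ) ^ 2 * u i / d i) hjP0,
    Finset.sum_eq_zero (s := P0.erase j) (fun i hi => by simp [hzero i hi]), add_zero] at htot
  have hsj : s j ^ 2 ≤ 23 :=
    hs2 ▸ Finset.single_le_sum (f := fun i => s i ^ 2) (fun _ _ => sq_nonneg _) hjP
  have hb := big_row (hd j hjP).1 (hd j hjP).2.1 (hd j hjP).2.2 huj2 (h3 j hjP) hsj
  by_cases hs4 : s j = -4
  · have hsm : ∀ i ∈ P1, s i ^ 2 ≤ 1 := by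
      intro i hi
      obtain ⟨hiP, hv⟩ := Finset.mem_filter.1 hi
      obtain ⟨hmem, hsσ, hvσ⟩ := hσ i hiP
      have hne : σ i ≠ i := fun h => hv (by rw [h] at hvσ; omega)
      have hij : i ≠ j := fun h => hv (h ▸ hvj)
      have hσj : σ i ≠ j := fun h => hv (by rw [h, hvj] at hvσ; omega)
      have hsub : ({j, i, σ i} : Finset ι) ⊆ P := by
        intro x hx
        simp only [Finset.mem_insert, Finset.mem_singleton] at hx
        rcases hx with rfl | rfl | rfl <;> assumption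
      have h1 : ∑ x ∈ ({j, i, σ i} : Finset ι), s x ^ 2 ≤ 23 :=
        hs2 ▸ Finset.sum_le_sum_of_subset_of_nonneg hsub fun x _ _ => sq_nonneg _
      rw [Finset.sum_insert (by simp [hij.symm, hσj.symm]), Finset.sum_pair hne.symm, hsσ, hs4] at h1
      have : -1 ≤ s i ∧ s i ≤ 1 := by constructor <;> nlinarith
      obtain ⟨hl, hr⟩ := this
      interval_cases (s i) <;> norm_num
    linarith [hsum1 _ fun i hi => (hP1b i hi).2 (hsm i hi), hb.1]
  · linarith [hsum1 _ fun i hi => (hP1b i hi).1, hb.2 hs4]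

end CfsgLib.Case.Eight
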