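import Cfsg.Agent.Lib.FGStruct.SixteenPoints
import Mathlib.GroupTheory.PGroup
import Mathlib.GroupTheory.Perm.Basic

/-!
Automorphisms of odd order of an elementary abelian group of order eight.
-/

set_option autoImplicit false
set_option linter.style.haveILetI false

namespace CfsgLib.Case.Eight

variable {U : Type*} [Group U] [Finite U]

/-- An elementary abelian group of order eight. -/
structure IsEight (U : Type*) [Group U] : Prop where
  card : Nat.card U = 8
  sq : ∀ x : U, x ^ 2 = 1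
  comm : ∀ a b : U, a * b = b * a

theorem card_dvd_21 (hU : IsEight U) (R : Subgroup (MulAut U)) (hR : ¬ 2 ∣ Nat.card R) :
    Nat.card R ∣ 21 := by
  haveI : Fact (Nat.Prime 2) := ⟨Nat.prime_two⟩
  have h := (Subgroup.card_subgroup_dvd_card R).trans
    (CfsgLib.FGStruct.Sixteen.card_mulAut_dvd (p := 2) (n := 3) (by rw [hU.card]; norm_num)
      hU.comm hU.sq)
  rw [show (∏ i ∈ Finset.range 3, (2 ^ 3 - 2 ^ i) : ℕ) = 8 * 21 by
    norm_num [Finset.prod_range_succ]] at h
  have hcop : (Nat.card R).Coprime 8 := by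
    rw [show (8 : ℕ) = 2 ^ 3 by norm_num]
    exact (Nat.prime_two.coprime_iff_not_dvd.2 hR).symm.pow_right 3
  exact hcop.dvd_of_dvd_mul_left h

/-- The fixed subgroup. -/
def fixedBy (σ : MulAut U) : Subgroup U := σ.toMonoidHom.eqLocus (MonoidHom.id U)

omit [Finite U] in
theorem mem_fixedBy {σ : MulAut U} {x : U} : x ∈ fixedBy σ ↔ σ x = x := Iff.rfl

theorem card_fixed_mod {p : ℕ} [Fact p.Prime] {σ : MulAut U} (hσ : σ ^ p = 1) :
    Nat.card U ≡ Nat.card (fixedBy σ) [MOD p] := by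
  have hP : IsPGroup p (Subgroup.zpowers σ) := by
    rintro ⟨x, hx⟩
    obtain ⟨k, rfl⟩ := Subgroup.mem_zpowers_iff.1 hx
    refine ⟨1, Subtype.ext ?_⟩
    simp only [SubmonoidClass.coe_pow, OneMemClass.coe_one, pow_one]
    rw [← zpow_natCast, ← zpow_mul, mul_comm, zpow_mul, zpow_natCast, hσ, one_zpow]
  have h := hP.card_modEq_card_fixedPoints U
  rwa [Nat.card_congr (Equiv.subtypeEquivRight (q := (· ∈ fixedBy σ)) fun x => ?_)] at h
  constructor
  · intro hx
    exact hx ⟨σ, Subgroup.mem_zpowers σ⟩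
  · rintro hx ⟨τ, hτ⟩
    show τ x = x
    have : Subgroup.zpowers σ ≤ MulAction.stabilizer (MulAut U) x :=
      Subgroup.zpowers_le.2 hx
    exact this hτ

omit [Finite U] in
theorem eq_one_of_card_fixed {σ : MulAut U} (h : Nat.card (fixedBy σ) = Nat.card U) [Finite U] :
    σ = 1 :=
  MulEquiv.ext fun x => mem_fixedBy.1 ((Subgroup.eq_top_of_card_eq _ h) ▸ Subgroup.mem_top x)

theorem fixed_seven (hU : IsEight U) {σ : MulAut U} (h7 : σ ^ 7 = 1) (hne : σ ≠ 1) {x : U}
    (hx : σ x = x) : x = 1 := by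
  haveI : Fact (Nat.Prime 7) := ⟨by norm_num⟩
  have hmod := card_fixed_mod h7
  rw [hU.card] at hmod
  have hd := Subgroup.card_subgroup_dvd_card (fixedBy σ)
  rw [hU.card] at hd
  have hne8 : Nat.card (fixedBy σ) ≠ 8 := fun h => hne (eq_one_of_card_fixed (h.trans hU.card.symm))
  have hle := Nat.le_of_dvd (by norm_num) hd
  have h1 : Nat.card (fixedBy σ) = 1 := by
    unfold Nat.ModEq at hmod
    omega
  exact Subgroup.mem_bot.1 (Subgroup.eq_bot_of_card_eq _ h1 ▸ mem_fixedBy.2 hx)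

theorem fixed_three (hU : IsEight U) {σ : MulAut U} (h3 : σ ^ 3 = 1) (hne : σ ≠ 1) :
    Nat.card (fixedBy σ) = 2 := by
  haveI : Fact (Nat.Prime 3) := ⟨by norm_num⟩
  have hmod := card_fixed_mod h3
  rw [hU.card] at hmod
  have hd := Subgroup.card_subgroup_dvd_card (fixedBy σ)
  rw [hU.card] at hd
  have hne8 : Nat.card (fixedBy σ) ≠ 8 := fun h => hne (eq_one_of_card_fixed (h.trans hU.card.symm))
  have hle := Nat.le_of_dvd (by norm_num) hd
  obtain ⟨e, he, hcd⟩ := (Nat.dvd_prime_pow Nat.prime_two).1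
    (show Nat.card (fixedBy σ) ∣ 2 ^ 3 by norm_num; exact hd)
  unfold Nat.ModEq at hmod
  interval_cases e <;> omega

/-- An automorphism of order seven is transitive on the nonidentity elements. -/
theorem exists_pow_eq (hU : IsEight U) {σ : MulAut U} (h7 : σ ^ 7 = 1) (hne : σ ≠ 1) {x y : U}
    (hx : x ≠ 1) (hy : y ≠ 1) : ∃ k : ℕ, (σ ^ k) x = y := by
  classical
  cases nonempty_fintype U
  let f : Fin 7 → {z : U // z ≠ 1} := fun k => ⟨(σ ^ (k : ℕ)) x, fun h => hx ((σ ^ (k : ℕ)).map_eq_one_iff.1 h)⟩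
  have hstep : ∀ a b : ℕ, a ≤ b → b < 7 → (σ ^ a) x = (σ ^ b) x → a = b := by
    intro a b hab hb h
    by_contra hne'
    set c := b - a with hc
    have hfx : (σ ^ c) x = x := by
      apply (σ ^ a).injective
      rw [← MulAut.mul_apply, ← pow_add, show a + c = b by omega, h]
    have hc7 : c.Coprime 7 := ((Nat.Prime.coprime_iff_not_dvd (by norm_num)).2 fun hd => by
      have := Nat.le_of_dvd (by omega) hd
      omega).symm
    have hσc : σ ^ c ≠ 1 := fun h1 => hne (by
      have : orderOf σ ∣ 1 := hc7.symm ▸ Nat.dvd_gcd (orderOf_dvd_of_pow_eq_one h7)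
        (orderOf_dvd_of_pow_eq_one h1)
      exact orderOf_eq_one_iff.1 (Nat.dvd_one.1 this))
    exact hx (fixed_seven hU (by rw [← pow_mul, mul_comm, pow_mul, h7, one_pow]) hσc hfx)
  have hinj : Function.Injective f := by
    intro a b h
    have h' : (σ ^ (a : ℕ)) x = (σ ^ (b : ℕ)) x := congrArg Subtype.val h
    rcases le_total (a : ℕ) b with hl | hl
    · exact Fin.ext (hstep _ _ hl b.2 h')
    · exact (Fin.ext (hstep _ _ hl a.2 h'.symm)).symm
  have hcard : Fintype.card (Fin 7) = Fintype.card {z : U // z ≠ 1} := by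
    rw [Fintype.card_fin, Fintype.card_subtype_compl, Fintype.card_subtype_eq,
      ← Nat.card_eq_fintype_card, hU.card]
  obtain ⟨k, hk⟩ := ((Fintype.bijective_iff_injective_and_card f).2 ⟨hinj, hcard⟩).2 ⟨y, hy⟩
  exact ⟨k, congrArg Subtype.val hk⟩

end CfsgLib.Case.Eight
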