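import Cfsg.Agent.Lib.Invol.SectionAverage
import Cfsg.Agent.Lib.BlockPrincipal.Criterion
import Cfsg.Agent.Lib.CharTools.Basic
import Cfsg.Agent.Lib.Char.CentralOver
import Cfsg.Agent.Lib.BrauerTuan.Minus.Rational

/-!
Columns of the principal 2-block at `t` and `t w` when the centralizer of the involution `t` modulo
a normal subgroup of odd order has order 24 and an element `w` of order 3 outside a normal subgroup
of index 3.
-/

set_option autoImplicit false
set_option linter.style.haveILetI false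
set_option linter.unusedSectionVars false

open scoped ComplexConjugate
open CfsgLib.Invol

namespace CfsgLib.Case.Eight

universe u

variable {G : Type u} [Group G]

/-- The local data at the involution `t`. -/
structure Local (t : G) (O : Subgroup (Subgroup.centralizer ({t} : Set G))) [O.Normal] where
  K : Subgroup (Subgroup.centralizer ({t} : Set G))
  S : Subgroup (Subgroup.centralizer ({t} : Set G))
  w : Subgroup.centralizer ({t} : Set G)
  ord : orderOf t = 2
  Knormal : K.Normal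
  OK : O ≤ K
  Oodd : ¬ 2 ∣ Nat.card O
  Kidx : K.index = 3
  S2 : IsPGroup 2 S
  fix : ∀ c : Subgroup.centralizer ({t} : Set G), ¬ 2 ∣ orderOf c →
    (∀ s ∈ S, s * c = c * s) → c ∈ O
  oddDeg : ∀ ψ : Cfsg.IrrCharacter (Subgroup.centralizer ({t} : Set G)),
    (∀ n ∈ O, (ψ : Subgroup.centralizer ({t} : Set G) → ℂ) n =
      (ψ : Subgroup.centralizer ({t} : Set G) → ℂ) 1) →
    ¬ 2 ∣ Cfsg.charDegree (ψ : Subgroup.centralizer ({t} : Set G) → ℂ)
  wreg : ¬ 2 ∣ orderOf w
  wK : w ∉ K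
  wcube : w ^ 3 ∈ O
  card : O.index = 24
  cent : Nat.card (Subgroup.centralizer
    ({(w : Subgroup.centralizer ({t} : Set G) ⧸ O)} : Set _)) = 6

variable [Fintype G] {M : Ideal Cfsg.AlgInt} {t : G}
  {O : Subgroup (Subgroup.centralizer ({t} : Set G))} [O.Normal]

set_option quotPrecheck false in
local notation "CC" => Subgroup.centralizer ({t} : Set G)

theorem pow_two_order (D : Local t O) : ∃ k : ℕ, orderOf t = 2 ^ k := ⟨1, by rw [D.ord, pow_one]⟩

theorem regular_one : ¬ 2 ∣ orderOf (1 : CC) := by rw [orderOf_one]; omega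

theorem regular_inv {c : CC} (hc : ¬ 2 ∣ orderOf c) : ¬ 2 ∣ orderOf c⁻¹ := by rwa [orderOf_inv]

/-- The principal block of the centralizer consists of the characters trivial on `O`. -/
theorem mem_block (D : Local t O) (hM : Cfsg.IsPModular 2 M) (ψ : Cfsg.IrrCharacter CC) :
    ψ ∈ BlockCol.pBlock M CC ↔ ∀ n ∈ O, (ψ : CC → ℂ) n = (ψ : CC → ℂ) 1 := by
  classical
  haveI : Fact (Nat.Prime 2) := ⟨Nat.prime_two⟩
  rw [BlockCol.mem_pBlock]
  refine ⟨CfsgLib.Blk83.principal_trivial_on hM O D.Oodd, fun htriv => ?_⟩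
  rw [CfsgLib.BlockPrincipal.mem_principal_iff_of_not_dvd hM ψ (D.oddDeg ψ htriv)]
  intro hmem
  let _ : MulAction D.S CC :=
    MulAction.compHom CC (MulAut.conj.comp D.S.subtype : D.S →* MulAut CC)
  have hsmul : ∀ (a : D.S) (x : CC), a • x = (a : CC) * x * (a : CC)⁻¹ := fun a x => rfl
  have h := CfsgLib.BlockPrincipal.sum_fixedPoints_memIdeal (α := CC) hM D.S2
    (Finset.univ.filter fun x : CC => ¬ 2 ∣ orderOf x)
    (fun a x hx => by
      simp only [Finset.mem_filter, Finset.mem_univ, true_and, hsmul] at hx ⊢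
      rwa [show orderOf ((a : CC) * x * (a : CC)⁻¹) = orderOf x from
        MulEquiv.orderOf_eq (MulAut.conj (a : CC)) x])
    (fun x => (ψ : CC → ℂ) x) (fun x _ => CfsgLib.BlockReg.memRing_char hM ψ x)
    (fun a x _ => by
      rw [hsmul]
      exact CfsgLib.Char.IsIrrCharacter.isClassFunction ψ.2 x (a : CC))
  set F := (Finset.univ.filter fun x : CC => ¬ 2 ∣ orderOf x).filter
    fun x => ∀ a : D.S, a • x = x with hF
  have hFmem : ∀ x, x ∈ F ↔ x ∈ O ⊓ Subgroup.centralizer (D.S : Set CC) := by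
    intro x
    simp only [hF, Finset.mem_filter, Finset.mem_univ, true_and, Subgroup.mem_inf,
      Subgroup.mem_centralizer_iff, hsmul, mul_inv_eq_iff_eq_mul, SetLike.mem_coe]
    constructor
    · rintro ⟨hx, hS⟩
      exact ⟨D.fix x hx fun s hs => hS ⟨s, hs⟩, fun s hs => hS ⟨s, hs⟩⟩
    · rintro ⟨hx, hS⟩
      refine ⟨fun h2 => D.Oodd ?_, fun s => hS _ s.2⟩
      rw [← Subgroup.orderOf_mk x hx] at h2
      exact h2.trans (orderOf_dvd_natCard _)
  have hsum : ∑ x ∈ F, (ψ : CC → ℂ) x =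
      ((F.card * Cfsg.charDegree (ψ : CC → ℂ) : ℕ) : ℂ) := by
    rw [Finset.sum_congr rfl fun x hx => htriv x ((hFmem x).1 hx).1, Finset.sum_const, nsmul_eq_mul,
      Nat.cast_mul, CfsgLib.Blk83.one_eq]
  have hodd : ¬ 2 ∣ F.card * Cfsg.charDegree (ψ : CC → ℂ) := by
    rw [Nat.prime_two.dvd_mul]
    rintro (h2 | h2)
    · refine D.Oodd ((?_ : 2 ∣ Nat.card (O ⊓ Subgroup.centralizer (D.S : Set CC) : Subgroup CC)).trans
        (Subgroup.card_dvd_of_le inf_le_left))
      convert h2 using 1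
      rw [← Nat.card_eq_finsetCard]
      exact Nat.card_congr (Equiv.subtypeEquivRight fun x => (hFmem x).symm)
    · exact D.oddDeg ψ htriv h2
  have h' := CfsgLib.BlockReg.memIdeal_sub hM hmem h
  rw [CfsgLib.BlockPrincipal.regSum, sub_sub_cancel, hsum] at h'
  exact hodd ((CfsgLib.BlockReg.memIdeal_natCast_iff hM _).1 h')

/-- Sums over the principal block of the centralizer. -/
theorem sum_block (D : Local t O) (hM : Cfsg.IsPModular 2 M) (g h : CC)
    [Decidable (IsConj (g : CC ⧸ O) (h : CC ⧸ O))] :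
    ∑ ψ ∈ BlockCol.pBlock M CC, (ψ : CC → ℂ) g * conj ((ψ : CC → ℂ) h) =
      if IsConj (g : CC ⧸ O) (h : CC ⧸ O) then
        (Nat.card (Subgroup.centralizer ({(g : CC ⧸ O)} : Set (CC ⧸ O))) : ℂ) else 0 := by
  classical
  haveI : Fintype {χ : Cfsg.IrrCharacter CC // ∀ n ∈ O, (χ : CC → ℂ) n = (χ : CC → ℂ) 1} :=
    Fintype.ofFinite _
  rw [← CfsgLib.CharTools.sum_quotient_mul_conj O g h]
  exact Finset.sum_subtype _ (fun ψ => mem_block D hM ψ)
    (fun ψ : Cfsg.IrrCharacter CC => (ψ : CC → ℂ) g * conj ((ψ : CC → ℂ) h))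

omit [Fintype G] in
/-- Inversion fixes only the classes inside `K`. -/
theorem mem_K_of_isConj_inv (D : Local t O) {x c : CC} (h : x * c * x⁻¹ = c⁻¹) : c ∈ D.K := by
  haveI := D.Knormal
  haveI : Fact (Nat.Prime 3) := ⟨Nat.prime_three⟩
  haveI : IsCyclic (CC ⧸ D.K) := isCyclic_of_prime_card (p := 3) (by rw [← Subgroup.index, D.Kidx])
  have h1 := congrArg (QuotientGroup.mk (s := D.K)) h
  rw [QuotientGroup.mk_mul, QuotientGroup.mk_mul, QuotientGroup.mk_inv, QuotientGroup.mk_inv,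
    mul_comm' (x : CC ⧸ D.K), mul_inv_cancel_right] at h1
  rw [← QuotientGroup.eq_one_iff]
  have h2 : (c : CC ⧸ D.K) ^ 2 = 1 := by
    rw [pow_two]; nth_rewrite 1 [h1]; exact inv_mul_cancel _
  have h3 : (c : CC ⧸ D.K) ^ 3 = 1 := by
    have := pow_card_eq_one' (x := (c : CC ⧸ D.K))
    rwa [← Subgroup.index, D.Kidx] at this
  rw [pow_succ, h2, one_mul] at h3
  exact h3

omit [Fintype G] in
theorem not_mem_of_isConj (D : Local t O) {c : CC}
    (h : IsConj (D.w : CC ⧸ O) (c : CC ⧸ O)) : c ∉ D.K := by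
  haveI := D.Knormal
  obtain ⟨q, hq⟩ := isConj_iff.1 h
  obtain ⟨g, rfl⟩ := QuotientGroup.mk_surjective q
  rw [← QuotientGroup.mk_mul, ← QuotientGroup.mk_inv, ← QuotientGroup.mk_mul, QuotientGroup.eq] at hq
  intro hc
  apply D.wK
  have h1 : g * D.w * g⁻¹ ∈ D.K := by
    have := D.K.mul_mem hc (D.K.inv_mem (D.OK hq))
    rwa [mul_inv_rev, inv_inv, mul_inv_cancel_left] at this
  simpa [mul_assoc] using D.Knormal.conj_mem _ h1 g⁻¹

omit [Fintype G] in
theorem not_isConj_one (D : Local t O) : ¬ IsConj (D.w : CC ⧸ O) ((1 : CC) : CC ⧸ O) :=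
  fun h => not_mem_of_isConj D h (one_mem _)

omit [Fintype G] in
theorem not_isConj_inv (D : Local t O) : ¬ IsConj (D.w : CC ⧸ O) ((D.w⁻¹ : CC) : CC ⧸ O) := by
  haveI := D.Knormal
  intro h
  obtain ⟨q, hq⟩ := isConj_iff.1 h
  obtain ⟨g, rfl⟩ := QuotientGroup.mk_surjective q
  rw [← QuotientGroup.mk_mul, ← QuotientGroup.mk_inv, ← QuotientGroup.mk_mul, QuotientGroup.eq] at hq
  haveI : Fact (Nat.Prime 3) := ⟨Nat.prime_three⟩
  haveI : IsCyclic (CC ⧸ D.K) := isCyclic_of_prime_card (p := 3) (by rw [← Subgroup.index, D.Kidx])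
  have hK := D.OK hq
  rw [← QuotientGroup.eq, QuotientGroup.mk_mul, QuotientGroup.mk_mul, QuotientGroup.mk_inv,
    QuotientGroup.mk_inv, mul_comm' (g : CC ⧸ D.K),
    mul_inv_cancel_right] at hK
  apply D.wK
  rw [← QuotientGroup.eq_one_iff]
  have h2 : (D.w : CC ⧸ D.K) ^ 2 = 1 := by
    rw [pow_two]; nth_rewrite 1 [hK]; exact inv_mul_cancel _
  have h3 : (D.w : CC ⧸ D.K) ^ 3 = 1 := by
    rw [← QuotientGroup.mk_pow, QuotientGroup.eq_one_iff]; exact D.OK D.wcube
  rw [pow_succ, h2, one_mul] at h3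
  exact h3




theorem sum_tt (D : Local t O) (hM : Cfsg.IsPModular 2 M) :
    ∑ χ ∈ BlockCol.pBlock M G, (χ : G → ℂ) t * conj ((χ : G → ℂ) t) = 24 := by
  classical
  haveI : Fact (Nat.Prime 2) := ⟨Nat.prime_two⟩
  have h := BlockCol.sum_section hM (pow_two_order D) 1 1 (regular_one (t := t)) (regular_one (t := t))
  simp only [OneMemClass.coe_one, mul_one] at h
  rw [h, sum_block D hM, if_pos (IsConj.refl _)]
  have : Subgroup.centralizer ({((1 : CC) : CC ⧸ O)} : Set (CC ⧸ O)) = ⊤ :=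
    top_le_iff.1 fun q _ => Subgroup.mem_centralizer_singleton_iff.2 (by simp)
  rw [this, Subgroup.card_top, ← Subgroup.index, D.card]
  norm_num

theorem sum_ww (D : Local t O) (hM : Cfsg.IsPModular 2 M) :
    ∑ χ ∈ BlockCol.pBlock M G,
      (χ : G → ℂ) (t * D.w) * conj ((χ : G → ℂ) (t * D.w)) = 6 := by
  classical
  haveI : Fact (Nat.Prime 2) := ⟨Nat.prime_two⟩
  rw [BlockCol.sum_section hM (pow_two_order D) D.w D.w D.wreg D.wreg, sum_block D hM,
    if_pos (IsConj.refl _), D.cent]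
  norm_num

theorem sum_wi (D : Local t O) (hM : Cfsg.IsPModular 2 M) :
    ∑ χ ∈ BlockCol.pBlock M G,
      (χ : G → ℂ) (t * D.w) * (χ : G → ℂ) (t * D.w) = 0 := by
  classical
  haveI : Fact (Nat.Prime 2) := ⟨Nat.prime_two⟩
  have h := BlockCol.sum_section hM (pow_two_order D) D.w D.w⁻¹ D.wreg (regular_inv D.wreg)
  rw [sum_block D hM, if_neg (not_isConj_inv D)] at h
  rw [← h]
  refine Finset.sum_congr rfl fun χ _ => ?_
  congr 1
  rw [← CfsgLib.Char.IsIrrCharacter.apply_inv χ.2]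
  congr 1
  have hc : (D.w : G) * t = t * D.w := Subgroup.mem_centralizer_singleton_iff.1 D.w.2
  have ht : t⁻¹ = t := inv_eq_of_mul_eq_one_left (by
    rw [← pow_two, ← D.ord, pow_orderOf_eq_one])
  rw [Subgroup.coe_inv, mul_inv_rev, inv_inv, ht, hc]

omit [Fintype G] in
/-- An element of the centralizer inverted by a product of two conjugates of `t`. -/
theorem pair_conj_inv (D : Local t O) {c : CC} (hc : ¬ 2 ∣ orderOf c) {a b : G}
    (h : a * t * a⁻¹ * (b * t * b⁻¹) = t * (c : G)) :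
    ∃ x : CC, x * c * x⁻¹ = c⁻¹ := by
  set x := a * t * a⁻¹ with hx
  set y := b * t * b⁻¹ with hy
  have hsq : t * t = 1 := by rw [← pow_two, ← D.ord, pow_orderOf_eq_one]
  have hxx : x * x = 1 := by
    rw [hx, show a * t * a⁻¹ * (a * t * a⁻¹) = a * (t * t) * a⁻¹ by group, hsq]; group
  have hyy : y * y = 1 := by
    rw [hy, show b * t * b⁻¹ * (b * t * b⁻¹) = b * (t * t) * b⁻¹ by group, hsq]; group
  have hcomm : Commute t (c : G) := (Subgroup.mem_centralizer_singleton_iff.1 c.2).symm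
  have hinv : x * (t * (c : G)) * x⁻¹ = (t * (c : G))⁻¹ := by
    have hxi : x⁻¹ = x := inv_eq_of_mul_eq_one_left hxx
    have hyi : y⁻¹ = y := inv_eq_of_mul_eq_one_left hyy
    calc x * (t * (c : G)) * x⁻¹ = x * (x * y) * x⁻¹ := by rw [h]
      _ = y⁻¹ * x⁻¹ := by rw [← mul_assoc x x y, hxx, one_mul, hyi]
      _ = (x * y)⁻¹ := (mul_inv_rev x y).symm
      _ = (t * (c : G))⁻¹ := by rw [h]
  have hcop : (orderOf t).Coprime (orderOf (c : G)) := by
    rw [D.ord, Subgroup.orderOf_coe]; exact Nat.prime_two.coprime_iff_not_dvd.2 hc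
  obtain ⟨j, hj⟩ := Subgroup.mem_zpowers_iff.1
    (HomocyclicBlock.left_mem_zpowers_mul hcomm hcop)
  have hti : x * t * x⁻¹ = t := by
    nth_rewrite 1 [← hj]
    rw [← conj_zpow, hinv, inv_zpow, hj, inv_eq_of_mul_eq_one_left hsq]
  have hxt : x * t = t * x := mul_inv_eq_iff_eq_mul.1 hti
  refine ⟨⟨x, Subgroup.mem_centralizer_singleton_iff.2 hxt⟩, Subtype.ext ?_⟩
  simp only [Subgroup.coe_mul, Subgroup.coe_inv]
  have h3 : x * (t * (c : G)) * x⁻¹ = t * (x * (c : G) * x⁻¹) := by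
    rw [show x * (t * (c : G)) * x⁻¹ = x * t * x⁻¹ * (x * (c : G) * x⁻¹) by group, hti]
  rw [hinv, hcomm.eq, mul_inv_rev, inv_eq_of_mul_eq_one_left hsq] at h3
  exact (mul_left_cancel h3).symm

/-- The class sum of `t` has no element of the section of `t w` in its square. -/
theorem sum_sq_tw (D : Local t O) (hM : Cfsg.IsPModular 2 M) :
    ∑ χ ∈ BlockCol.pBlock M G,
      (χ : G → ℂ) t * (χ : G → ℂ) t * (χ : G → ℂ) (t * D.w) / (χ : G → ℂ) 1 = 0 := by
  classical
  haveI : Fact (Nat.Prime 2) := ⟨Nat.prime_two⟩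
  haveI := hM.2.1
  set e := Cfsg.principalBlock M CC with he
  haveI : Fintype e := Fintype.ofFinite _
  set f : Cfsg.IrrCharacter G → ℂ := fun χ => (χ : G → ℂ) t * (χ : G → ℂ) t / (χ : G → ℂ) 1 with hf
  have hterm : ∀ χ : Cfsg.IrrCharacter G,
      Cfsg.blockPart e (fun c : CC => (χ : G → ℂ) (t * (c : G))) D.w =
        if χ ∈ BlockCol.pBlock M G then (χ : G → ℂ) (t * D.w) else 0 := fun χ =>
    BlockCol.blockPart_translate hM (pow_two_order D) χ D.w D.wreg
  calc ∑ χ ∈ BlockCol.pBlock M G,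
        (χ : G → ℂ) t * (χ : G → ℂ) t * (χ : G → ℂ) (t * D.w) / (χ : G → ℂ) 1
      = ∑ χ : Cfsg.IrrCharacter G,
          f χ * Cfsg.blockPart e (fun c : CC => (χ : G → ℂ) (t * (c : G))) D.w := by
        simp only [hterm, mul_ite, mul_zero, Finset.sum_ite_mem, Finset.univ_inter, hf]
        exact Finset.sum_congr rfl fun χ _ => by ring
    _ = ∑ c : CC, CfsgLib.BlockRank.projKer e D.w c *
          ∑ χ : Cfsg.IrrCharacter G, f χ * (χ : G → ℂ) (t * (c : G)) := by
        simp only [CfsgLib.BlockRank.blockPart_eq_projKer, Finset.mul_sum]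
        rw [Finset.sum_comm]
        exact Finset.sum_congr rfl fun c _ => Finset.sum_congr rfl fun χ _ => by ring
    _ = 0 := by
        refine Finset.sum_eq_zero fun c _ => ?_
        by_cases hc : 2 ∣ orderOf c
        · rw [CfsgLib.BlockRank.projKer_eq_zero hM CfsgLib.Blocks.isPBlock_principalBlock
            (by simpa [Cfsg.IsPRegular] using D.wreg) (fun hreg => hreg hc), zero_mul]
        by_cases hcw : IsConj (D.w : CC ⧸ O) (c : CC ⧸ O)
        · refine mul_eq_zero_of_right _ ?_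
          have h0 := SectionAverage.sum_sq_mul_div (G := G)
            (inv_eq_of_mul_eq_one_left (show t * t = 1 by rw [← pow_two, ← D.ord, pow_orderOf_eq_one]))
            (t * (c : G))
          rw [Finset.filter_eq_empty_iff.2 (fun ab _ hab => by
            obtain ⟨x, hx⟩ := pair_conj_inv D hc hab
            exact not_mem_of_isConj D hcw (mem_K_of_isConj_inv D hx)), Finset.card_empty,
            Nat.cast_zero] at h0
          rw [← (mul_eq_zero.1 h0).resolve_left (Nat.cast_ne_zero.2 Fintype.card_ne_zero)]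
          exact Finset.sum_congr rfl fun χ _ => by simp only [hf]; ring
        · rw [CfsgLib.BlockRank.projKer, Finset.sum_congr (s₂ := BlockCol.pBlock M CC)
            (by ext ψ; rw [Set.mem_toFinset, BlockCol.mem_pBlock]) (fun _ _ => rfl),
            sum_block D hM, if_neg hcw, mul_zero, zero_mul]

omit [Fintype G] in
/-- A sum of cube roots of unity. -/
theorem exists_omega_sum {s : Multiset ℂ} {ω : ℂ} (hω : IsPrimitiveRoot ω 3)
    (h : ∀ z ∈ s, z ^ 3 = 1) :
    ∃ a b c : ℕ, s.sum = a + b * ω + c * ω ^ 2 ∧ Multiset.card s = a + b + c := by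
  induction s using Multiset.induction with
  | empty => exact ⟨0, 0, 0, by simp, by simp⟩
  | cons z s ih =>
    obtain ⟨a, b, c, h1, h2⟩ := ih fun y hy => h y (Multiset.mem_cons_of_mem hy)
    obtain ⟨i, hi, rfl⟩ := hω.eq_pow_of_pow_eq_one (h z (Multiset.mem_cons_self _ _))
    interval_cases i
    · exact ⟨a + 1, b, c, by simp [h1]; ring, by simp [h2]; ring⟩
    · exact ⟨a, b + 1, c, by simp [h1]; ring, by simp [h2]; ring⟩
    · exact ⟨a, b, c + 1, by simp [h1]; ring, by simp [h2]; ring⟩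

/-- Decomposition of the two columns. -/
theorem exists_coeff (D : Local t O) (hM : Cfsg.IsPModular 2 M) {ω : ℂ}
    (hω : IsPrimitiveRoot ω 3) {χ : Cfsg.IrrCharacter G} (hχ : χ ∈ BlockCol.pBlock M G) :
    ∃ a b c : ℤ, (χ : G → ℂ) t = a + b + c ∧
      (χ : G → ℂ) (t * D.w) = a + b * ω + c * ω ^ 2 := by
  classical
  haveI : Fact (Nat.Prime 2) := ⟨Nat.prime_two⟩
  haveI : Fintype (Cfsg.principalBlock M CC) := Fintype.ofFinite _
  have hsq : t * t = 1 := by rw [← pow_two, ← D.ord, pow_orderOf_eq_one]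
  set tc : CC := ⟨t, Subgroup.mem_centralizer_singleton_iff.2 rfl⟩ with htc
  have htcz : tc ∈ Subgroup.center CC := Subgroup.mem_center_iff.2 fun g =>
    Subtype.ext (Subgroup.mem_centralizer_singleton_iff.1 g.2)
  have hres : Cfsg.IsCharacter CC (fun g : CC => (χ : G → ℂ) (g : G)) :=
    CfsgLib.Char.IsCharacter.comp (CfsgLib.Char.IsIrrCharacter.isCharacter χ.2) (CC).subtype
  obtain ⟨m, hm⟩ := CfsgLib.Char.IsCharacter.exists_nat_combination hres
  have hε : ∀ ψ : Cfsg.IrrCharacter CC, ∃ ε : ℤ, ∀ g : CC,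
      (ψ : CC → ℂ) (g * tc) = ε * (ψ : CC → ℂ) g := by
    intro ψ
    have h1 : (ψ : CC → ℂ) 1 ≠ 0 := CfsgLib.CharTools.irr_apply_one_ne_zero ψ
    have hmul := fun g => CfsgLib.CharOver.apply_mul_central ψ.2 htcz g
    have h2 := hmul tc
    rw [show tc * tc = 1 from Subtype.ext hsq] at h2
    rcases mul_self_eq_mul_self_iff.1 h2.symm with h3 | h3
    · exact ⟨1, fun g => mul_right_cancel₀ h1 (by rw [hmul g, h3]; push_cast; ring)⟩
    · exact ⟨-1, fun g => mul_right_cancel₀ h1 (by rw [hmul g, h3]; push_cast; ring)⟩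
  choose ε hε using hε
  have hθ : (fun c : CC => (χ : G → ℂ) (t * (c : G))) =
      ∑ ψ, ((m ψ : ℂ) * (ε ψ : ℂ)) • (ψ : CC → ℂ) := by
    funext c
    have := congrFun hm (c * tc)
    simp only [Finset.sum_apply, Pi.smul_apply, smul_eq_mul, hε, Subgroup.coe_mul] at this ⊢
    rw [show t * (c : G) = (c : G) * t from (Subgroup.mem_centralizer_singleton_iff.1 c.2).symm]
    rw [show (tc : G) = t from rfl] at this
    rw [this]
    exact Finset.sum_congr rfl fun ψ _ => by ring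
  have hval : ∀ y : CC, ¬ 2 ∣ orderOf y → (χ : G → ℂ) (t * (y : G)) =
      ∑ ψ ∈ BlockCol.pBlock M CC, ((m ψ : ℂ) * (ε ψ : ℂ)) * (ψ : CC → ℂ) y := by
    intro y hy
    have h := BlockCol.blockPart_translate hM (pow_two_order D) χ y hy
    rw [if_pos hχ] at h
    rw [← h, hθ, CfsgLib.BlockRank.blockPart_apply]
    simp only [CfsgLib.Char.classInner_sum_smul_irr]
    exact Finset.sum_congr (by ext ψ; rw [Set.mem_toFinset, BlockCol.mem_pBlock]) fun _ _ => rfl
  have hψ : ∀ ψ : BlockCol.pBlock M CC, ∃ a b c : ℕ,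
      (ψ.1 : CC → ℂ) D.w = a + b * ω + c * ω ^ 2 ∧ (ψ.1 : CC → ℂ) 1 = a + b + c := by
    intro ψ
    have htriv := (mem_block D hM ψ.1).1 ψ.2
    obtain ⟨φ, hφ⟩ := (CfsgLib.CharTools.quotientEquiv O).surjective ⟨ψ.1, htriv⟩
    have hap : ∀ g : CC, (ψ.1 : CC → ℂ) g = (φ : CC ⧸ O → ℂ) (g : CC ⧸ O) := fun g => by
      rw [← CfsgLib.CharTools.quotientEquiv_apply O φ g, hφ]
    obtain ⟨n, ρ, hρ, he⟩ := φ.2
    obtain ⟨s, hs, hsum, -, hroot⟩ := CfsgLib.Char.exists_eigen_multiset ρ (D.w : CC ⧸ O)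
    have h3 : (D.w : CC ⧸ O) ^ 3 = 1 := by
      rw [← QuotientGroup.mk_pow, QuotientGroup.eq_one_iff]; exact D.wcube
    obtain ⟨a, b, c, h1, h2⟩ := exists_omega_sum hω (s := s) fun z hz => by
      obtain ⟨r, hr⟩ := orderOf_dvd_of_pow_eq_one h3
      rw [hr, pow_mul, hroot z hz, one_pow]
    refine ⟨a, b, c, ?_, ?_⟩
    · rw [hap, ← he, hsum, h1]
    · rw [hap, ← he, QuotientGroup.mk_one, ρ.char_one, ← hs, h2]; push_cast; ring
  choose ka kb kc hk1 hk2 using hψ
  refine ⟨∑ ψ : BlockCol.pBlock M CC, (m ψ.1 : ℤ) * ε ψ.1 * ka ψ,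
    ∑ ψ : BlockCol.pBlock M CC, (m ψ.1 : ℤ) * ε ψ.1 * kb ψ,
    ∑ ψ : BlockCol.pBlock M CC, (m ψ.1 : ℤ) * ε ψ.1 * kc ψ, ?_, ?_⟩
  · have h := hval 1 (regular_one (t := t))
    rw [OneMemClass.coe_one, mul_one, ← Finset.sum_coe_sort] at h
    rw [h]
    push_cast
    simp only [hk2, ← Finset.sum_add_distrib]
    exact Finset.sum_congr rfl fun ψ _ => by ring
  · rw [hval D.w D.wreg, ← Finset.sum_coe_sort]
    push_cast
    simp only [hk1, Finset.sum_mul, ← Finset.sum_add_distrib]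
    exact Finset.sum_congr rfl fun ψ _ => by ring

end CfsgLib.Case.Eight
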