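import Cfsg.Agent.Lib.Case.Eight.Block
import Cfsg.Agent.Lib.Case.Eight.Aut
import Cfsg.Agent.Lib.Transfer.ThompsonFactor
import Cfsg.Agent.Lib.PLocal.Constrained
import Cfsg.Agent.Lib.Solvable.Core
import Cfsg.Agent.Lib.Char.Ito

/-!
The local data of a solvable centralizer of an involution with an elementary abelian Sylow
2-subgroup of order eight and an element acting with order three.
-/

set_option autoImplicit false
set_option linter.style.haveILetI false

open CfsgLib.Invol

namespace CfsgLib.Case.Eight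

universe u

variable {G : Type u} [Group G] [Finite G]

theorem eq_one_of_regular_sq {H : Type*} [Group H] {x : H} (hx : ¬ 2 ∣ orderOf x)
    (h : x ^ 2 = 1) : x = 1 := by
  rcases (Nat.dvd_prime Nat.prime_two).1 (orderOf_dvd_of_pow_eq_one h) with h1 | h1
  · exact orderOf_eq_one_iff.1 h1
  · exact absurd (h1 ▸ dvd_rfl) hx

/-- The local data exist. -/
theorem exists_local (S : Sylow 2 G) (hS : IsEight (S : Subgroup G)) {t : G} (ht : t ≠ 1)
    (htS : t ∈ (S : Subgroup G))
    (hsol : Group.IsSolvable (Subgroup.centralizer ({t} : Set G)))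
    {n : Subgroup.normalizer ((S : Subgroup G) : Set G)} (hn2 : ¬ 2 ∣ orderOf n)
    (hne : (S : Subgroup G).normalizerMonoidHom n ≠ 1)
    (h3 : (S : Subgroup G).normalizerMonoidHom n ^ 3 = 1)
    (hnt : (n : G) * t * (n : G)⁻¹ = t) :
    ∃ (O : Subgroup (Subgroup.centralizer ({t} : Set G))) (hO : O.Normal),
      Nonempty (@Local G _ t O hO) := by
  classical
  haveI : Fact (Nat.Prime 2) := ⟨Nat.prime_two⟩
  set C := Subgroup.centralizer ({t} : Set G) with hC
  have hord : orderOf t = 2 := orderOf_eq_prime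
    (by simpa using congrArg Subtype.val (hS.sq ⟨t, htS⟩)) ht
  have hSC : (S : Subgroup G) ≤ C := fun s hs => Subgroup.mem_centralizer_singleton_iff.2
    (congrArg Subtype.val (hS.comm ⟨s, hs⟩ ⟨t, htS⟩))
  let T : Sylow 2 C := S.subtype hSC
  set w : C := ⟨(n : G), Subgroup.mem_centralizer_singleton_iff.2
    (by rw [← mul_inv_eq_iff_eq_mul]; exact hnt)⟩ with hw
  set O := Cfsg.pPrimeCore 2 C with hOdef
  haveI hOn : O.Normal := CfsgLib.Solvable.pPrimeCore_normal 2 C
  have hOodd : ¬ 2 ∣ Nat.card O := Nat.prime_two.coprime_iff_not_dvd.1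
    (CfsgLib.Solvable.pPrimeCore_card_coprime 2 C).symm
  have hOreg : ∀ x ∈ O, ¬ 2 ∣ orderOf x := fun x hx h => hOodd (h.trans (by
    rw [← Subgroup.orderOf_mk x hx]; exact orderOf_dvd_natCard _))
  let π : C →* C ⧸ O := QuotientGroup.mk' O
  have hπ : Function.Surjective π := QuotientGroup.mk'_surjective O
  have hTmem : ∀ x : C, x ∈ (T : Subgroup C) ↔ (x : G) ∈ (S : Subgroup G) := fun x => Iff.rfl
  have hTsq : ∀ x ∈ (T : Subgroup C), x ^ 2 = 1 := fun x hx => Subtype.ext (by
    simpa using congrArg Subtype.val (hS.sq ⟨(x : G), hx⟩))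
  have hTO : ∀ x ∈ (T : Subgroup C), x ∈ O → x = 1 := fun x hx hxO =>
    eq_one_of_regular_sq (hOreg x hxO) (hTsq x hx)
  set Q := ((T : Subgroup C).map π) with hQ
  have hQcard : Nat.card Q = 8 := by
    rw [← hS.card, ← Nat.card_congr (Subgroup.subgroupOfEquivOfLe hSC).toEquiv]
    refine (Nat.card_congr (Equiv.ofBijective (π.subgroupMap (T : Subgroup C))
      ⟨fun a b h => ?_, π.subgroupMap_surjective _⟩)).symm
    refine Subtype.ext (mul_inv_eq_one.1 (hTO _ (mul_mem a.2 (inv_mem b.2)) ?_))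
    refine (QuotientGroup.eq_one_iff _).1 ?_
    have : π (a : C) = π (b : C) := congrArg Subtype.val h
    show π ((a : C) * (b : C)⁻¹) = 1
    rw [map_mul, map_inv, this, mul_inv_cancel]
  have hQE : IsEight Q := by
    refine ⟨hQcard, ?_, ?_⟩
    · rintro ⟨_, x, hx, rfl⟩
      exact Subtype.ext (by simp only [SubmonoidClass.coe_pow, ← map_pow, hTsq x hx, map_one,
        OneMemClass.coe_one])
    · rintro ⟨_, x, hx, rfl⟩ ⟨_, y, hy, rfl⟩
      refine Subtype.ext ?_
      simp only [Subgroup.coe_mul, ← map_mul]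
      exact congrArg π (Subtype.ext
        (Subtype.ext_iff.1 (hS.comm ⟨(x : G), hx⟩ ⟨(y : G), hy⟩) :))
  -- the Sylow subgroup of the quotient is normal and self-centralising
  have hsQ : Cfsg.IsPSolvable 2 (C ⧸ O) := CfsgLib.PLoc.isPSolvable_of_surjective hπ
    (CfsgLib.ThompsonFactor.isPSolvable_of_isSolvable hsol)
  have hpcQ : Cfsg.pCore 2 (C ⧸ O) ≤ Q := CfsgLib.Solvable.pCore_le_sylow (T.mapSurjective hπ)
  have hcent : Subgroup.centralizer (Q : Set (C ⧸ O)) ≤ Q := fun x hx =>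
    hpcQ (CfsgLib.PLoc.centralizer_pCore_le_self hsQ
      (CfsgLib.Solvable.pPrimeCore_quotient_eq_bot O hOdef)
      (Subgroup.centralizer_le hpcQ hx))
  have hQab : Q ≤ Subgroup.centralizer (Q : Set (C ⧸ O)) := fun x hx =>
    Subgroup.mem_centralizer_iff.2 fun y hy =>
      congrArg Subtype.val (hQE.comm ⟨y, hy⟩ ⟨x, hx⟩)
  have hQeq : Q = Cfsg.pCore 2 (C ⧸ O) := le_antisymm (fun x hx =>
    CfsgLib.PLoc.centralizer_pCore_le_self hsQ (CfsgLib.Solvable.pPrimeCore_quotient_eq_bot O hOdef)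
      (Subgroup.centralizer_le hpcQ (hQab hx))) hpcQ
  haveI hQn : Q.Normal := hQeq ▸ CfsgLib.Solvable.pCore_normal 2 (C ⧸ O)
  -- regular elements centralising the Sylow subgroup
  have hfix : ∀ c : C, ¬ 2 ∣ orderOf c → (∀ s ∈ (T : Subgroup C), s * c = c * s) → c ∈ O := by
    intro c hc hcs
    have h1 : π c ∈ Q := hcent (Subgroup.mem_centralizer_iff.2 (by
      rintro _ ⟨s, hs, rfl⟩; rw [← map_mul, ← map_mul, hcs s hs]))
    refine (QuotientGroup.eq_one_iff c).1 (eq_one_of_regular_sq (fun h => hc (h.trans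
      (orderOf_map_dvd π c))) ?_)
    exact congrArg Subtype.val (hQE.sq ⟨π c, h1⟩)
  have happ : ∀ s : (S : Subgroup G),
      (((S : Subgroup G).normalizerMonoidHom n) s : G) = (n : G) * (s : G) * (n : G)⁻¹ :=
    fun s => rfl
  have hwT : ∀ x : C, x ∈ (T : Subgroup C) → w * x * w⁻¹ ∈ (T : Subgroup C) := fun x hx =>
    (Subgroup.mem_normalizer_iff.1 n.2 (x : G)).1 hx
  have hwreg : ¬ 2 ∣ orderOf w := by
    rw [← Subgroup.orderOf_coe]; exact (Subgroup.orderOf_coe n) ▸ hn2
  -- `w` outside the preimage of `Q`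
  have hwQ : π w ∉ Q := by
    intro hmem
    have hwO : w ∈ O := by
      refine (QuotientGroup.eq_one_iff w).1 (eq_one_of_regular_sq (fun h => hwreg (h.trans
        (orderOf_map_dvd π w))) ?_)
      exact congrArg Subtype.val (hQE.sq ⟨π w, hmem⟩)
    apply hne
    refine MulEquiv.ext fun s => Subtype.ext ?_
    rw [happ]
    have h1 := hTO (w * ⟨(s : G), hSC s.2⟩ * w⁻¹ * (⟨(s : G), hSC s.2⟩ : C)⁻¹)
      (mul_mem (hwT _ s.2) (inv_mem s.2)) (by
        rw [show w * ⟨(s : G), hSC s.2⟩ * w⁻¹ * (⟨(s : G), hSC s.2⟩ : C)⁻¹ =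
          w * ((⟨(s : G), hSC s.2⟩ : C) * w⁻¹ * (⟨(s : G), hSC s.2⟩ : C)⁻¹) by group]
        exact O.mul_mem hwO (hOn.conj_mem _ (inv_mem hwO) _))
    exact congrArg Subtype.val (mul_inv_eq_one.1 h1)
  -- the index of `Q`
  have hQidx : Q.index = 3 := by
    let g : C ⧸ O →* MulAut Q := MulAut.conjNormal
    have hker : g.ker = Q := by
      refine le_antisymm (fun x hx => hcent (Subgroup.mem_centralizer_iff.2 fun y hy => ?_))
        (fun x hx => MonoidHom.mem_ker.2 (MulEquiv.ext fun y => Subtype.ext ?_))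
      · have h1 : (g x) ⟨y, hy⟩ = ⟨y, hy⟩ := by rw [MonoidHom.mem_ker.1 hx]; rfl
        have h2 := congrArg Subtype.val h1
        rw [MulAut.conjNormal_apply, mul_inv_eq_iff_eq_mul] at h2
        exact h2.symm
      · rw [MulAut.conjNormal_apply, mul_inv_eq_iff_eq_mul]
        exact congrArg Subtype.val (hQE.comm ⟨x, hx⟩ y)
    have hidx : Nat.card g.range = Q.index := by rw [← Subgroup.index_ker, hker]
    have hodd : ¬ 2 ∣ Q.index := (T.mapSurjective hπ).not_dvd_index
    have hd := card_dvd_21 hQE g.range (hidx ▸ hodd)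
    have h7 : ¬ 7 ∣ Nat.card g.range := by
      intro h
      haveI : Fact (Nat.Prime 7) := ⟨by norm_num⟩
      obtain ⟨σ, hσ⟩ := exists_prime_orderOf_dvd_card' 7 h
      obtain ⟨x, hx⟩ := σ.2
      have hσ' : orderOf (σ : MulAut Q) = 7 := by rw [Subgroup.orderOf_coe, hσ]
      set tC : C := ⟨t, hSC htS⟩ with htC
      have htQ : π tC ∈ Q := ⟨tC, htS, rfl⟩
      have hfixt : (σ : MulAut Q) ⟨π tC, htQ⟩ = ⟨π tC, htQ⟩ := by
        rw [← hx]
        refine Subtype.ext ?_
        rw [MulAut.conjNormal_apply]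
        obtain ⟨c, rfl⟩ := hπ x
        rw [← map_inv, ← map_mul, ← map_mul]
        refine congrArg π (Subtype.ext ?_)
        show (c : G) * t * (c : G)⁻¹ = t
        rw [mul_inv_eq_iff_eq_mul]; exact Subgroup.mem_centralizer_singleton_iff.1 c.2
      have h1 := fixed_seven hQE (hσ' ▸ pow_orderOf_eq_one _) (fun he => by
        rw [he, orderOf_one] at hσ'; norm_num at hσ') hfixt
      have h2 : π tC = 1 := congrArg Subtype.val h1
      exact ht (congrArg Subtype.val (hTO tC htS ((QuotientGroup.eq_one_iff tC).1 h2)))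
    have hne1 : Q.index ≠ 1 := fun h => hwQ (Subgroup.index_eq_one.1 h ▸ Subgroup.mem_top _)
    rw [hidx] at hd h7
    have := Nat.le_of_dvd (by norm_num) hd
    interval_cases hq : Q.index <;> omega
  -- the cube of `w`
  have hwcube : w ^ 3 ∈ O := by
    refine hfix _ (fun h => hwreg (h.trans (orderOf_pow_dvd 3))) fun s hs => Subtype.ext ?_
    have h1 : ((S : Subgroup G).normalizerMonoidHom (n ^ 3)) ⟨(s : G), hs⟩ = ⟨(s : G), hs⟩ := by
      rw [map_pow, h3]; rfl
    have h2 : ((n ^ 3 : Subgroup.normalizer ((S : Subgroup G) : Set G)) : G) * (s : G) *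
        ((n ^ 3 : Subgroup.normalizer ((S : Subgroup G) : Set G)) : G)⁻¹ = (s : G) :=
      congrArg Subtype.val h1
    rw [SubmonoidClass.coe_pow, mul_inv_eq_iff_eq_mul] at h2
    exact h2.symm
  -- the centralizer of `w` in the quotient
  have hcentw : Nat.card (Subgroup.centralizer ({(w : C ⧸ O)} : Set (C ⧸ O))) = 6 := by
    set X := Subgroup.centralizer ({(w : C ⧸ O)} : Set (C ⧸ O)) with hX
    have hwX : π w ∈ X := Subgroup.mem_centralizer_singleton_iff.2 rfl
    have h1 : Q.relIndex X = 3 := by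
      have hd := Q.relIndex_dvd_index_of_normal X
      rw [hQidx] at hd
      exact ((Nat.dvd_prime Nat.prime_three).1 hd).resolve_left fun h =>
        hwQ (Subgroup.relIndex_eq_one.1 h hwX)
    have h2 : Nat.card (Q ⊓ X : Subgroup (C ⧸ O)) = 2 := by
      rw [← fixed_three hS h3 hne]
      refine (Nat.card_congr (Equiv.ofBijective
        (fun s : fixedBy ((S : Subgroup G).normalizerMonoidHom n) =>
          (⟨π ⟨((s : (S : Subgroup G)) : G), hSC s.1.2⟩, ⟨⟨_, s.1.2, rfl⟩,
            Subgroup.mem_centralizer_singleton_iff.2 (by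
              show π _ * π w = π w * π _
              rw [← map_mul, ← map_mul]
              refine congrArg π (Subtype.ext ?_)
              have := congrArg Subtype.val (mem_fixedBy.1 s.2)
              rw [happ, mul_inv_eq_iff_eq_mul] at this
              exact this.symm)⟩⟩ : (Q ⊓ X : Subgroup (C ⧸ O))))
        ⟨fun a b h => ?_, ?_⟩)).symm
      · have h' : π ⟨((a : (S : Subgroup G)) : G), hSC a.1.2⟩ = π ⟨((b : (S : Subgroup G)) : G), hSC b.1.2⟩ :=
          congrArg Subtype.val h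
        have := hTO (⟨((a : (S : Subgroup G)) : G), hSC a.1.2⟩ * (⟨((b : (S : Subgroup G)) : G), hSC b.1.2⟩ : C)⁻¹)
          (mul_mem a.1.2 (inv_mem b.1.2)) ((QuotientGroup.eq_one_iff _).1 (by
            show π _ = 1
            rw [map_mul, map_inv, h', mul_inv_cancel]))
        exact Subtype.ext (Subtype.ext (congrArg Subtype.val (mul_inv_eq_one.1 this) :))
      · rintro ⟨_, ⟨x, hx, rfl⟩, hxX⟩
        refine ⟨⟨⟨(x : G), hx⟩, mem_fixedBy.2 (Subtype.ext ?_)⟩, rfl⟩
        rw [happ]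
        have h4 := hTO (w * x * w⁻¹ * x⁻¹) (mul_mem (hwT x hx) (inv_mem hx))
          ((QuotientGroup.eq_one_iff _).1 (by
            show π _ = 1
            have hxw : π x * π w = π w * π x := Subgroup.mem_centralizer_singleton_iff.1 hxX
            rw [map_mul, map_mul, map_mul, map_inv, map_inv, ← hxw, mul_inv_cancel_right,
              mul_inv_cancel]))
        exact congrArg Subtype.val (mul_inv_eq_one.1 h4)
    have h5 := (Q.subgroupOf X).card_mul_index
    rw [show (Q.subgroupOf X).index = 3 from h1] at h5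
    rw [← h5, ← Nat.card_congr (Subgroup.subgroupOfEquivOfLe (inf_le_right (a := Q) (b := X))).toEquiv] at *
    rw [Subgroup.inf_subgroupOf_right] at h2
    rw [h2]
  -- odd degrees
  have hodd : ∀ ψ : Cfsg.IrrCharacter C, (∀ x ∈ O, (ψ : C → ℂ) x = (ψ : C → ℂ) 1) →
      ¬ 2 ∣ Cfsg.charDegree (ψ : C → ℂ) := by
    intro ψ hψ h2
    obtain ⟨φ, hφ⟩ := (CfsgLib.CharTools.quotientEquiv O).surjective ⟨ψ, hψ⟩
    have he : Cfsg.charDegree (ψ : C → ℂ) = Cfsg.charDegree (φ : C ⧸ O → ℂ) := by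
      rw [← CfsgLib.CharTools.charDegree_quotientEquiv O φ, hφ]
    obtain ⟨m, ρ, hρ, hr⟩ := φ.2
    haveI := hρ
    have hdvd := CfsgLib.Char.finrank_dvd_index_of_abelian_normal ρ Q
      (fun a ha b hb => congrArg Subtype.val (hQE.comm ⟨a, ha⟩ ⟨b, hb⟩))
    rw [hQidx] at hdvd
    rw [he, ← hr, show Cfsg.charDegree ρ.character = Module.finrank ℂ (Fin m → ℂ) from
      CfsgLib.Char.degree_character ρ] at h2
    have h3 := h2.trans hdvd
    omega
  refine ⟨O, hOn, ⟨{
    K := Q.comap π, S := T, w := w, ord := hord, Knormal := inferInstance, OK := ?_, Oodd := hOodd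
    Kidx := ?_, S2 := T.2, fix := hfix, oddDeg := hodd, wreg := hwreg, wK := hwQ, wcube := hwcube
    card := ?_, cent := hcentw }⟩⟩
  · exact le_trans (QuotientGroup.ker_mk' O).ge (MonoidHom.ker_le_comap π Q)
  · rw [Q.index_comap_of_surjective hπ, hQidx]
  · rw [Subgroup.index, ← Q.card_mul_index, hQcard, hQidx]

end CfsgLib.Case.Eight
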