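import Cfsg.Agent.Lib.Case.Eight.Block
import Cfsg.Agent.Lib.Case.Eight.Arith
import Cfsg.Agent.Lib.BlockPrincipal.Parity
import Cfsg.Agent.Lib.Blk83.PairCount

/-!
The two columns give a contradiction in a simple group with all involutions of an elementary abelian
subgroup of order eight conjugate to `t`.
-/

set_option autoImplicit false
set_option linter.unusedSectionVars false

open scoped ComplexConjugate
open CfsgLib.Invol

namespace CfsgLib.Case.Eight

universe u

variable {G : Type u} [Group G] [Fintype G] {M : Ideal Cfsg.AlgInt} {t : G}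
  {O : Subgroup (Subgroup.centralizer ({t} : Set G))} [O.Normal]

theorem omega_re : (Complex.exp (2 * Real.pi * Complex.I / 3)).re = -1 / 2 ∧
    (Complex.exp (2 * Real.pi * Complex.I / 3)).im ^ 2 = 3 / 4 ∧
    Complex.exp (2 * Real.pi * Complex.I / 3) ^ 2 =
      -1 - Complex.exp (2 * Real.pi * Complex.I / 3) := by
  set ω := Complex.exp (2 * Real.pi * Complex.I / 3) with hω
  have hp : IsPrimitiveRoot ω 3 := by
    simpa [hω] using Complex.isPrimitiveRoot_exp 3 (by norm_num)
  have hsum := hp.geom_sum_eq_zero (by norm_num)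
  simp only [Finset.sum_range_succ, Finset.sum_range_zero, pow_zero, pow_one, zero_add] at hsum
  have h2 : ω ^ 2 = -1 - ω := by linear_combination hsum
  have hne : ω.im ≠ 0 := by
    intro h
    have hr := congrArg Complex.re h2
    simp only [sq, Complex.mul_re, Complex.sub_re, Complex.neg_re, Complex.one_re, h, mul_zero,
      sub_zero] at hr
    nlinarith [sq_nonneg (ω.re + 1 / 2)]
  have hi := congrArg Complex.im h2
  simp only [sq, Complex.mul_im, Complex.sub_im, Complex.neg_im, Complex.one_im, neg_zero,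
    zero_sub] at hi
  have hre : ω.re = -1 / 2 := by
    have : ω.im * (2 * ω.re + 1) = 0 := by linarith
    rcases mul_eq_zero.1 this with h | h
    · exact absurd h hne
    · linarith
  have hr := congrArg Complex.re h2
  simp only [sq, Complex.mul_re, Complex.sub_re, Complex.neg_re, Complex.one_re, hre] at hr
  exact ⟨hre, by rw [sq]; linarith, h2⟩

/-- **The contradiction.** -/
theorem false_of_data (D : Local t O) (hM : Cfsg.IsPModular 2 M)
    (E : Subgroup G) (hE : Nat.card E = 8) (hconj : ∀ x ∈ E, x ≠ 1 → IsConj t x)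
    (hsimple : IsSimpleGroup G) (hz : t ∉ Subgroup.center G) : False := by
  classical
  haveI : Fact (Nat.Prime 2) := ⟨Nat.prime_two⟩
  set ω := Complex.exp (2 * Real.pi * Complex.I / 3) with hω
  obtain ⟨hre, him, hω2⟩ := omega_re
  rw [← hω] at hre him hω2
  have hp : IsPrimitiveRoot ω 3 := by
    simpa [hω] using Complex.isPrimitiveRoot_exp 3 (by norm_num)
  have hcoef : ∀ χ : Cfsg.IrrCharacter G, ∃ a b c : ℤ, χ ∈ BlockCol.pBlock M G →
      (χ : G → ℂ) t = a + b + c ∧ (χ : G → ℂ) (t * D.w) = a + b * ω + c * ω ^ 2 := by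
    intro χ
    by_cases hχ : χ ∈ BlockCol.pBlock M G
    · obtain ⟨a, b, c, h⟩ := exists_coeff D hM hp hχ
      exact ⟨a, b, c, fun _ => h⟩
    · exact ⟨0, 0, 0, fun h => absurd h hχ⟩
  choose ca cb cc hc using hcoef
  set s : Cfsg.IrrCharacter G → ℤ := fun χ => ca χ + cb χ + cc χ with hsdef
  set u : Cfsg.IrrCharacter G → ℤ := fun χ => 2 * ca χ - cb χ - cc χ with hudef
  set v : Cfsg.IrrCharacter G → ℤ := fun χ => cb χ - cc χ with hvdef
  set d : Cfsg.IrrCharacter G → ℤ := fun χ => (Cfsg.charDegree (χ : G → ℂ) : ℤ) with hddef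
  have hs : ∀ χ ∈ BlockCol.pBlock M G, (χ : G → ℂ) t = (s χ : ℂ) := fun χ hχ => by
    rw [(hc χ hχ).1]; simp [hsdef]
  have hzre : ∀ χ ∈ BlockCol.pBlock M G, ((χ : G → ℂ) (t * D.w)).re = (u χ : ℝ) / 2 ∧
      ((χ : G → ℂ) (t * D.w)).im = (v χ : ℝ) * ω.im := fun χ hχ => by
    rw [(hc χ hχ).2, hω2]
    simp only [Complex.add_re, Complex.add_im, Complex.mul_re, Complex.mul_im, Complex.intCast_re,
      Complex.intCast_im, Complex.sub_re, Complex.sub_im, Complex.neg_re, Complex.neg_im,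
      Complex.one_re, Complex.one_im, hre, hudef, hvdef]
    push_cast
    constructor <;> ring
  have him0 : ω.im ≠ 0 := fun h => by rw [h] at him; norm_num at him
  -- moments over the whole block
  have hA : ∑ χ ∈ BlockCol.pBlock M G, s χ ^ 2 = 24 := by
    have h := sum_tt D hM
    rw [Finset.sum_congr rfl fun χ hχ => by rw [hs χ hχ, map_intCast, ← sq]] at h
    exact_mod_cast h
  have hB : ∑ χ ∈ BlockCol.pBlock M G, ((u χ : ℝ) ^ 2 + 3 * (v χ : ℝ) ^ 2) = 24 := by
    have h := congrArg Complex.re (sum_ww D hM)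
    rw [Complex.re_sum] at h
    rw [Finset.sum_congr (g := fun χ => ((u χ : ℝ) ^ 2 + 3 * (v χ : ℝ) ^ 2) / 4) rfl fun χ hχ => by
      rw [Complex.mul_re, Complex.conj_re, Complex.conj_im, (hzre χ hχ).1, (hzre χ hχ).2]
      linear_combination (v χ : ℝ) ^ 2 * him] at h
    rw [← Finset.sum_div] at h
    norm_num at h
    linarith
  have hC : ∑ χ ∈ BlockCol.pBlock M G, ((u χ : ℝ) ^ 2 - 3 * (v χ : ℝ) ^ 2) = 0 := by
    have h := congrArg Complex.re (sum_wi D hM)
    rw [Complex.re_sum] at h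
    rw [Finset.sum_congr (g := fun χ => ((u χ : ℝ) ^ 2 - 3 * (v χ : ℝ) ^ 2) / 4) rfl fun χ hχ => by
      rw [Complex.mul_re, (hzre χ hχ).1, (hzre χ hχ).2]
      linear_combination -(v χ : ℝ) ^ 2 * him] at h
    rw [← Finset.sum_div] at h
    rw [Complex.zero_re, div_eq_zero_iff] at h
    exact h.resolve_right (by norm_num)
  have hD : ∑ χ ∈ BlockCol.pBlock M G, (s χ : ℝ) ^ 2 * (u χ : ℝ) / (d χ : ℝ) = 0 := by
    have h := congrArg Complex.re (sum_sq_tw D hM)
    rw [Complex.re_sum] at h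
    rw [Finset.sum_congr (g := fun χ => (s χ : ℝ) ^ 2 * (u χ : ℝ) / (d χ : ℝ) / 2) rfl fun χ hχ => by
      rw [hs χ hχ, CfsgLib.Blk83.one_eq, Complex.div_natCast_re, ← sq, ← Int.cast_pow,
        ← Complex.ofReal_intCast, Complex.re_ofReal_mul, (hzre χ hχ).1]
      simp only [hddef]; push_cast; ring] at h
    rw [← Finset.sum_div, Complex.zero_re, div_eq_zero_iff] at h
    exact h.resolve_right (by norm_num)
  -- the principal row
  set τ : Cfsg.IrrCharacter G := CfsgLib.Char.principalIrr with hτ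
  have hτmem : τ ∈ BlockCol.pBlock M G :=
    BlockCol.mem_pBlock.2 (CfsgLib.BlockPrincipal.principalIrr_mem hM)
  have hτ1 : s τ = 1 ∧ u τ = 2 ∧ v τ = 0 ∧ d τ = 1 := by
    have h1 : ∀ g : G, (τ : G → ℂ) g = 1 := fun g => CfsgLib.Char.principalIrr_apply g
    refine ⟨?_, ?_, ?_, ?_⟩
    · have := hs τ hτmem; rw [h1] at this; exact_mod_cast this.symm
    · have := (hzre τ hτmem).1; rw [h1, Complex.one_re] at this
      have h2 : (u τ : ℝ) = 2 := by linarith
      exact_mod_cast h2
    · have := (hzre τ hτmem).2; rw [h1, Complex.one_im] at this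
      exact_mod_cast (mul_eq_zero.1 this.symm).resolve_right him0
    · have h2 := CfsgLib.Blk83.one_eq τ
      rw [h1] at h2
      simp only [hddef]; exact_mod_cast h2.symm
  obtain ⟨hτs, hτu, hτv, hτd⟩ := hτ1
  set P := (BlockCol.pBlock M G).erase τ with hP
  -- conjugation
  have hconjmem : ∀ χ ∈ P, CfsgLib.BlockPrincipal.conjIrr χ ∈ P := by
    intro χ hχ
    obtain ⟨hne, hmem⟩ := Finset.mem_erase.1 hχ
    refine Finset.mem_erase.2 ⟨fun h => hne ?_, ?_⟩
    · rw [← CfsgLib.BlockPrincipal.conjIrr_involutive χ, h]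
      exact Subtype.ext (funext fun g => by
        rw [CfsgLib.BlockPrincipal.conjIrr_apply, CfsgLib.Char.principalIrr_apply,
          CfsgLib.Char.principalIrr_apply])
    · rw [BlockCol.mem_pBlock, CfsgLib.BlockPrincipal.mem_principal_iff hM] at hmem ⊢
      rw [show ((CfsgLib.BlockPrincipal.conjIrr χ : Cfsg.IrrCharacter G) : G → ℂ) =
        fun g => (χ : G → ℂ) g⁻¹ from funext (CfsgLib.BlockPrincipal.conjIrr_apply χ),
        CfsgLib.BlockPrincipal.regSum_inv]
      simp only [inv_one]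
      exact hmem
  have hσ : ∀ χ ∈ P, CfsgLib.BlockPrincipal.conjIrr χ ∈ P ∧
      s (CfsgLib.BlockPrincipal.conjIrr χ) = s χ ∧
        v (CfsgLib.BlockPrincipal.conjIrr χ) = -v χ := by
    intro χ hχ
    have h1 := (Finset.mem_erase.1 hχ).2
    have h2 := (Finset.mem_erase.1 (hconjmem χ hχ)).2
    refine ⟨hconjmem χ hχ, ?_, ?_⟩
    · have e := hs _ h2
      rw [CfsgLib.BlockPrincipal.conjIrr_apply, CfsgLib.Char.IsIrrCharacter.apply_inv χ.2, hs χ h1,
        map_intCast] at e
      exact_mod_cast e.symm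
    · have e := (hzre _ h2).2
      rw [CfsgLib.BlockPrincipal.conjIrr_apply, CfsgLib.Char.IsIrrCharacter.apply_inv χ.2,
        Complex.conj_im, (hzre χ h1).2, ← neg_mul] at e
      exact_mod_cast (mul_right_cancel₀ him0 e).symm
  -- degrees
  have hdeg : ∀ χ ∈ P, |s χ| < d χ ∧ (8 : ℤ) ∣ d χ - s χ ∧ 0 ≤ d χ + 7 * s χ := by
    intro χ hχ
    obtain ⟨hne, hmem⟩ := Finset.mem_erase.1 hχ
    obtain ⟨m, hm⟩ := CfsgLib.Blk83.exists_nat_sum_eq χ E
    rw [← Finset.add_sum_erase _ _ (Finset.mem_univ (1 : E)), OneMemClass.coe_one, CfsgLib.Blk83.one_eq,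
      Finset.sum_congr rfl fun w hw => by
        rw [← CfsgLib.Char.IsClassFunction.eq_of_isConj
          (CfsgLib.Char.IsIrrCharacter.isClassFunction χ.2)
          (hconj w w.2 fun h => (Finset.mem_erase.1 hw).1 (Subtype.ext h)), hs χ hmem],
      Finset.sum_const, Finset.card_erase_of_mem (Finset.mem_univ _), Finset.card_univ,
      ← Nat.card_eq_fintype_card, hE, nsmul_eq_mul] at hm
    have hm' : d χ + 7 * s χ = 8 * m := by
      simp only [hddef]
      exact_mod_cast (show (Cfsg.charDegree (χ : G → ℂ) : ℂ) + 7 * (s χ : ℂ) = 8 * (m : ℂ) by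
        push_cast at hm ⊢; linear_combination hm)
    refine ⟨?_, ⟨m - s χ, by omega⟩, by omega⟩
    have hle := CfsgLib.Char.IsCharacter.norm_apply_le
      (CfsgLib.Char.IsIrrCharacter.isCharacter χ.2) t
    rw [hs χ hmem, Complex.norm_intCast] at hle
    refine lt_of_le_of_ne (by simp only [hddef]; exact_mod_cast hle) fun heq => hz ?_
    obtain ⟨n, ρ, hρ, he⟩ := χ.2
    obtain ⟨c, hc'⟩ := CfsgLib.Char.eq_smul_one_of_norm_character_eq ρ t (by
      rw [he, hs χ hmem, Complex.norm_intCast,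
        show (Module.finrank ℂ (Fin n → ℂ) : ℝ) = (Cfsg.charDegree (χ : G → ℂ) : ℝ) from ?_]
      · have : |s χ| = (Cfsg.charDegree (χ : G → ℂ) : ℤ) := heq
        exact_mod_cast this
      · exact_mod_cast (show (Module.finrank ℂ (Fin n → ℂ) : ℂ) = (Cfsg.charDegree (χ : G → ℂ) : ℂ) by
          rw [← CfsgLib.Blk83.one_eq, ← he, ρ.char_one]))
    have hker : (MonoidHom.ker ρ) = ⊥ := by
      refine ((MonoidHom.normal_ker ρ).eq_bot_or_eq_top).resolve_right fun htop => hne ?_
      refine Subtype.ext (funext fun g => ?_)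
      have hg1 : (χ : G → ℂ) g = (χ : G → ℂ) 1 := by
        rw [← he]; simp [Representation.character, MonoidHom.mem_ker.1 (htop ▸ Subgroup.mem_top g)]
      have hn : (χ : G → ℂ) 1 = 1 := by
        haveI := hρ
        have h1 := CfsgLib.CharKernel.finrank_eq_one_of_trivial (ρ := ρ) (fun g =>
          MonoidHom.mem_ker.1 (htop ▸ Subgroup.mem_top g))
        rw [← he, ρ.char_one, h1, Nat.cast_one]
      rw [hg1, hn, CfsgLib.Char.principalIrr_apply]
    refine Subgroup.mem_center_iff.2 fun g => ?_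
    have hcomm : ρ (g * t * g⁻¹ * t⁻¹) = 1 := by
      rw [map_mul, map_mul, map_mul, hc', mul_smul_comm, mul_one, smul_mul_assoc, ← map_mul,
        mul_inv_cancel, map_one, ← hc', ← map_mul, mul_inv_cancel, map_one]
    have hmem' : g * t * g⁻¹ * t⁻¹ ∈ MonoidHom.ker ρ := hcomm
    rw [hker, Subgroup.mem_bot, mul_inv_eq_one, mul_inv_eq_iff_eq_mul] at hmem'
    exact hmem'
  refine no_rows P s u v d CfsgLib.BlockPrincipal.conjIrr hσ hdeg
    (fun χ _ => ⟨ca χ, by simp only [hsdef, hudef]; ring⟩)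
    (fun χ _ => ⟨ca χ - cb χ, by simp only [hudef, hvdef]; ring⟩) ?_ ?_ ?_ ?_
  · rw [← Finset.add_sum_erase _ (fun χ => s χ ^ 2) hτmem, hτs] at hA
    simp only [hP]; linarith
  all_goals rw [← Finset.add_sum_erase _ _ hτmem, hτu, hτv] at hB hC
  · have : ∑ χ ∈ P, (u χ : ℝ) ^ 2 = 8 := by
      simp only [Finset.sum_add_distrib, Finset.sum_sub_distrib] at hB hC
      simp only [hP]; push_cast at hB hC; linarith
    exact_mod_cast this
  · have : ∑ χ ∈ P, (v χ : ℝ) ^ 2 = 4 := by
      simp only [Finset.sum_add_distrib, Finset.sum_sub_distrib, ← Finset.mul_sum] at hB hC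
      simp only [hP]; push_cast at hB hC; linarith
    exact_mod_cast this
  · rw [← Finset.add_sum_erase _ _ hτmem, hτs, hτu, hτd] at hD
    have : ∑ χ ∈ P, (s χ : ℝ) ^ 2 * (u χ : ℝ) / (d χ : ℝ) = -2 := by
      simp only [hP]; push_cast at hD; linarith
    exact_mod_cast this

end CfsgLib.Case.Eight
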